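import Mathlib
import Cfsg.Agent.H681.GmnRgd
import Cfsg.Agent.H711.Crit_m3
import Cfsg.Agent.FastGrp
import Cfsg.Agent.Prune
set_option linter.all false
prune_inst 0x7f00000000000000000000000000000000000000000000000000000000000000000000000000000000000000000000000000000000000000000000000000000000000000000000000000000000000000003fffffffffffffffffffffffffffbeffbdffffffff
open scoped Cfsg.Agent.FastGrp

/-!
# Self-normalizing Sylow subgroups and simple direct factors of normal subgroups (helper712)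

`N ⊴ G`, `T ≤ N ≤ N_G(T)`, `T` nonabelian simple, `R` a Sylow `p`-subgroup of `G` with `N_G(R) = R`.

* `indT R T` : the group of automorphisms of `T` induced by `R ∩ N_G(T)`; `mem_indT`;
* `spec` : every `A : Subgroup (MulAut T)` with `a ∈ A ↔ ∃ x ∈ R, T ^ x = T ∧ ∀ t, a t = x t x⁻¹` is a `p`-group, contains
  `conj x` for `x ∈ R ∩ T`, `R ∩ T` is a Sylow subgroup of `T`, and no `p'`-element `h ≠ 1` of `T` normalises `A`.
-/

set_option autoImplicit false

open Cfsg Subgroup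
open scoped Pointwise

namespace Cfsg.Agent.H712.GmnMin

variable {G : Type*} [Group G]

/-- a simple direct factor of a normal subgroup -/
structure Hyp (N T : Subgroup G) : Prop where
  normal : N.Normal
  le : T ≤ N
  nrm : N ≤ normalizer (T : Set G)
  simple : IsSimpleGroup T
  nonab : ¬ ∀ x y : T, x * y = y * x

theorem mem_conj_smul {T : Subgroup G} {g x : G} : x ∈ MulAut.conj g • T ↔ g⁻¹ * x * g ∈ T := by
  constructor
  · rintro ⟨y, hy, rfl⟩
    have h2 : g⁻¹ * (g * y * g⁻¹) * g = y := by group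
    show g⁻¹ * (g * y * g⁻¹) * g ∈ T
    rw [h2]
    exact hy
  · intro h
    refine ⟨_, h, ?_⟩
    show g * (g⁻¹ * x * g) * g⁻¹ = x
    group

theorem mem_normalizer_iff_smul {T : Subgroup G} {g : G} : g ∈ normalizer (T : Set G) ↔ MulAut.conj g • T = T := by
  constructor
  · intro h
    ext x
    rw [mem_conj_smul, Subgroup.mem_normalizer_iff.1 h (g⁻¹ * x * g)]
    have h1 : g * (g⁻¹ * x * g) * g⁻¹ = x := by group
    rw [h1]
  · intro h
    rw [Subgroup.mem_normalizer_iff]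
    intro x
    have h1 : g * x * g⁻¹ ∈ MulAut.conj g • T ↔ x ∈ T := by
      rw [mem_conj_smul]
      have h2 : g⁻¹ * (g * x * g⁻¹) * g = x := by group
      rw [h2]
    rw [← h1, h]

namespace Hyp

variable {N T : Subgroup G}

theorem conj (h : Hyp N T) (g : G) : Hyp N (MulAut.conj g • T) := by
  have := h.normal
  have := h.simple
  let e : T ≃* ↥(MulAut.conj g • T) := {
    toFun := fun x => ⟨g * x * g⁻¹, mem_conj_smul.2 (by
      have : g⁻¹ * (g * (x : G) * g⁻¹) * g = x := by group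
      rw [this]; exact x.2)⟩
    invFun := fun x => ⟨g⁻¹ * x * g, mem_conj_smul.1 x.2⟩
    left_inv := fun x => Subtype.ext (by show g⁻¹ * (g * (x : G) * g⁻¹) * g = x; group)
    right_inv := fun x => Subtype.ext (by show g * (g⁻¹ * (x : G) * g) * g⁻¹ = x; group)
    map_mul' := fun x y => Subtype.ext (by show g * ((x : G) * y) * g⁻¹ = g * x * g⁻¹ * (g * y * g⁻¹); group) }
  refine ⟨h.normal, ?_, ?_, ?_, ?_⟩
  · intro x hx
    have h1 := h.le (mem_conj_smul.1 hx)
    have h2 := h.normal.conj_mem _ h1 g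
    have h3 : g * (g⁻¹ * x * g) * g⁻¹ = x := by group
    rwa [h3] at h2
  · intro n hn
    rw [mem_normalizer_iff_smul, ← mul_smul, ← map_mul]
    have h1 : n * g = g * (g⁻¹ * n * g) := by group
    rw [h1, map_mul, mul_smul]
    have h2 : g⁻¹ * n * g ∈ N := by
      have := h.normal.conj_mem n hn g⁻¹
      rwa [inv_inv] at this
    rw [mem_normalizer_iff_smul.1 (h.nrm h2)]
  · exact e.symm.isSimpleGroup
  · intro hab
    exact h.nonab fun x y => e.injective (by rw [map_mul, map_mul, hab])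

theorem center_eq (h : Hyp N T) : center T = ⊥ := by
  have := h.simple
  rcases (inferInstance : (center T).Normal).eq_bot_or_eq_top with h1 | h1
  · exact h1
  · exact absurd (fun x y => mem_center_iff.1 (by rw [h1]; trivial : y ∈ center T) x) h.nonab

/-- an element of `T` centralising `T` is trivial -/
theorem eq_one (h : Hyp N T) {x : G} (hx : x ∈ T) (hc : x ∈ centralizer (T : Set G)) : x = 1 := by
  have h1 : (⟨x, hx⟩ : T) ∈ center T := by
    rw [mem_center_iff]
    intro y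
    exact Subtype.ext (mem_centralizer_iff.1 hc y y.2)
  rw [h.center_eq, mem_bot] at h1
  exact congrArg Subtype.val h1

/-- distinct factors commute -/
theorem comm (h : Hyp N T) {T' : Subgroup G} (h' : Hyp N T') (hne : T ≠ T') : T ≤ centralizer (T' : Set G) := by
  have hs := h.simple
  have hs' := h'.simple
  have hn : ∀ {A B : Subgroup G}, Hyp N A → Hyp N B → (A.subgroupOf B).Normal := by
    intro A B hA hB
    refine ⟨fun x hx y => ?_⟩
    exact (Subgroup.mem_normalizer_iff.1 (hA.nrm (hB.le y.2)) _).1 hx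
  have hdis : ∀ x, x ∈ T → x ∈ T' → x = 1 := by
    rcases (hn h' h).eq_bot_or_eq_top with h1 | h1
    · intro x hx hx'
      have h2 : (⟨x, hx⟩ : T) ∈ T'.subgroupOf T := hx'
      rw [h1, mem_bot] at h2
      exact congrArg Subtype.val h2
    · rcases (hn h h').eq_bot_or_eq_top with h2 | h2
      · intro x hx hx'
        have h3 : (⟨x, hx'⟩ : T') ∈ T.subgroupOf T' := hx
        rw [h2, mem_bot] at h3
        exact congrArg Subtype.val h3
      · exact absurd (le_antisymm (subgroupOf_eq_top.1 h1) (subgroupOf_eq_top.1 h2)) hne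
  intro x hx
  rw [mem_centralizer_iff]
  intro y hy
  have h1 : x * y * x⁻¹ * y⁻¹ ∈ T' := mul_mem ((Subgroup.mem_normalizer_iff.1 (h'.nrm (h.le hx)) y).1 hy) (inv_mem hy)
  have h2 : x * y * x⁻¹ * y⁻¹ ∈ T := by
    have h3 := (Subgroup.mem_normalizer_iff.1 (h.nrm (h'.le hy)) x⁻¹).1 (inv_mem hx)
    have h4 : x * y * x⁻¹ * y⁻¹ = x * (y * x⁻¹ * y⁻¹) := by group
    rw [h4]
    exact mul_mem hx h3
  have h3 := hdis _ h2 h1
  have h4 : x * y = y * x := by
    calc x * y = (x * y * x⁻¹ * y⁻¹) * (y * x) := by group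
      _ = y * x := by rw [h3, one_mul]
  exact h4.symm

theorem _root_.Cfsg.Agent.H712.GmnMin.mem_sup_of_comm {K M : Subgroup G} (hKM : K ≤ centralizer (M : Set G)) {m : G}
    (hm : m ∈ K ⊔ M) : ∃ a ∈ K, ∃ b ∈ M, a * b = m := by
  let D : Subgroup G := {
    carrier := {m | ∃ a ∈ K, ∃ b ∈ M, a * b = m}
    one_mem' := ⟨1, one_mem _, 1, one_mem _, one_mul 1⟩
    mul_mem' := by
      rintro _ _ ⟨a, ha, b, hb, rfl⟩ ⟨c, hc, d, hd, rfl⟩
      refine ⟨a * c, mul_mem ha hc, b * d, mul_mem hb hd, ?_⟩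
      have h1 := mem_centralizer_iff.1 (hKM hc) b hb
      calc a * c * (b * d) = a * (c * b) * d := by group
        _ = a * (b * c) * d := by rw [h1]
        _ = a * b * (c * d) := by group
    inv_mem' := by
      rintro _ ⟨a, ha, b, hb, rfl⟩
      refine ⟨a⁻¹, inv_mem ha, b⁻¹, inv_mem hb, ?_⟩
      have h1 := mem_centralizer_iff.1 (hKM (inv_mem ha)) b⁻¹ (inv_mem hb)
      rw [mul_inv_rev, h1] }
  have h1 : K ⊔ M ≤ D := sup_le (fun a ha => ⟨a, ha, 1, one_mem _, mul_one a⟩)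
    (fun b hb => ⟨1, one_mem _, b, hb, one_mul b⟩)
  exact h1 hm

/-- the product of the factors has trivial centre -/
theorem eq_one_of_iSup (J : Finset (Subgroup G)) (hJ : ∀ L ∈ J, Hyp N L) {m : G} (hm : m ∈ ⨆ L ∈ J, L)
    (hc : ∀ L ∈ J, m ∈ centralizer (L : Set G)) : m = 1 := by
  classical
  induction J using Finset.induction_on generalizing m with
  | empty => simpa using hm
  | insert K J hK ih =>
    have hKJ : (⨆ L ∈ J, L) ≤ centralizer (K : Set G) := iSup₂_le fun L hL =>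
      (hJ L (Finset.mem_insert_of_mem hL)).comm (hJ K (Finset.mem_insert_self _ _)) (by
        rintro rfl
        exact hK hL)
    rw [Finset.iSup_insert] at hm
    obtain ⟨a, ha, b, hb, rfl⟩ := mem_sup_of_comm (Subgroup.le_centralizer_iff.1 hKJ) hm
    have ha1 : a = 1 := by
      refine (hJ K (Finset.mem_insert_self _ _)).eq_one ha ?_
      have h1 := mul_mem (hc K (Finset.mem_insert_self _ _)) (inv_mem (hKJ hb))
      rwa [mul_inv_cancel_right] at h1
    rw [ha1, one_mul] at hc ⊢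
    exact ih (fun L hL => hJ L (Finset.mem_insert_of_mem hL)) hb fun L hL => hc L (Finset.mem_insert_of_mem hL)

theorem subnormal (h : Hyp N T) : T.IsSubnormal := by
  have := h.normal
  have h1 : N.IsSubnormal := Subgroup.IsSubnormal.step N ⊤ le_top Subgroup.IsSubnormal.top (by infer_instance)
  refine Subgroup.IsSubnormal.step T N h.le h1 ⟨fun x hx y => ?_⟩
  exact (Subgroup.mem_normalizer_iff.1 (h.nrm y.2) _).1 hx

end Hyp

variable [Finite G] {p : ℕ} [Fact p.Prime] (R : Sylow p G) {N T : Subgroup G}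

/-- the automorphisms of `T` induced by `R ∩ N_G(T)` -/
def indT (R : Sylow p G) (T : Subgroup G) : Subgroup (MulAut T) :=
  ((R : Subgroup G).subgroupOf (normalizer (T : Set G))).map T.normalizerMonoidHom

omit [Finite G] [Fact p.Prime] in
theorem mem_indT {a : MulAut T} : a ∈ indT R T ↔ ∃ x ∈ R, x ∈ normalizer (T : Set G) ∧ ∀ t : T, (a t : G) = x * t * x⁻¹ := by
  constructor
  · rintro ⟨x, hx, rfl⟩
    exact ⟨x, hx, x.2, fun _ => rfl⟩
  · rintro ⟨x, hx, hxT, h⟩
    refine ⟨⟨x, hxT⟩, hx, ?_⟩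
    refine MulEquiv.ext fun t => Subtype.ext ?_
    rw [h t]
    rfl

omit [Finite G] [Fact p.Prime] in
theorem isPGroup_indT : IsPGroup p (indT R T) :=
  (R.isPGroup'.comap_subtype (K := normalizer (T : Set G))).map _

omit [Finite G] [Fact p.Prime] in
theorem conj_mem_indT {x : T} (hx : (x : G) ∈ R) : MulAut.conj x ∈ indT R T :=
  (mem_indT R).2 ⟨x, hx, le_normalizer x.2, fun _ => rfl⟩

/-- the Sylow subgroup `R ∩ T` of `T` -/
noncomputable def sylT (h : Hyp N T) : Sylow p T :=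
  (R.isPGroup'.comap_subtype (K := T)).toSylow (fun hd => R.not_dvd_index
    (hd.trans (Cfsg.Agent.SignalizersComponents.PCompCore.relIndex_dvd_index_of_subnormal _ h.subnormal)))

theorem mem_sylT (h : Hyp N T) {x : T} : x ∈ sylT R h ↔ (x : G) ∈ R := Iff.rfl

/-- if `conj g` normalises `indT`: `[g, y] ∈ R` for `y ∈ N_R(T)` -/
theorem key (h : Hyp N T) {g : T} (hg : ∀ a ∈ indT R T, MulAut.conj g * a * (MulAut.conj g)⁻¹ ∈ indT R T)
    {y : G} (hy : y ∈ R) (hyN : y ∈ normalizer (T : Set G)) : (g : G)⁻¹ * (y * g * y⁻¹) ∈ (R : Subgroup G) := by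
  have := Gmn.finite_mulAut (S := T)
  have hgN := Gmn.mem_normalizer_of_forall hg
  let α : MulAut T := T.normalizerMonoidHom ⟨y, hyN⟩
  have hαA : α ∈ indT R T := ⟨⟨y, hyN⟩, hy, rfl⟩
  have hα : (α g : G) = y * g * y⁻¹ := rfl
  have h1 : MulAut.conj (g⁻¹ * α g) ∈ indT R T := by
    rw [map_mul, map_inv, ← Gmn.mul_conj_inv]
    have h2 : (MulAut.conj g)⁻¹ * (α * MulAut.conj g * α⁻¹) =
        ((MulAut.conj g)⁻¹ * α * (MulAut.conj g)⁻¹⁻¹) * α⁻¹ := by group
    rw [h2]
    exact mul_mem ((Subgroup.mem_normalizer_iff.1 (inv_mem hgN) α).1 hαA) (inv_mem hαA)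
  have h2 := Gmn.mem_sylow_of_conj_mem h.center_eq (isPGroup_indT R) (sylT R h) (fun x hx => conj_mem_indT R hx) h1
  exact h2

/-- **No `p'`-element of `T` normalises `indT R T`.** -/
theorem eq_one_of_self (h : Hyp N T) (hself : normalizer ((R : Subgroup G) : Set G) = R) {g : T}
    (hgp : ¬ p ∣ orderOf g) (hgN : ∀ a ∈ indT R T, MulAut.conj g * a * (MulAut.conj g)⁻¹ ∈ indT R T) : g = 1 := by
  classical
  -- the `R`-orbit of `T`
  set I : Finset (Subgroup G) := (Set.toFinite {L : Subgroup G | ∃ x ∈ R, MulAut.conj x • T = L}).toFinset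
    with hIdef
  have hmem : ∀ L, L ∈ I ↔ ∃ x ∈ R, MulAut.conj x • T = L := by
    intro L
    simp [hIdef]
  have hH : ∀ L ∈ I, Hyp N L := by
    intro L hL
    obtain ⟨x, -, rfl⟩ := (hmem L).1 hL
    exact h.conj x
  have hI : ∀ L ∈ I, ∀ L' ∈ I, L ≠ L' → L ≤ centralizer (L' : Set G) :=
    fun L hL L' hL' hne => (hH L hL).comm (hH L' hL') hne
  have hconjI : ∀ x ∈ R, ∀ L ∈ I, MulAut.conj x • L ∈ I := by
    intro x hx L hL
    obtain ⟨y, hy, rfl⟩ := (hmem L).1 hL
    rw [hmem]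
    exact ⟨x * y, R.mul_mem hx hy, by rw [map_mul, mul_smul]⟩
  choose! xs hxsP hxsL using fun L (hL : L ∈ I) => (hmem L).1 hL
  set f : Subgroup G → G := fun L => xs L * g * (xs L)⁻¹ with hf
  have hfL : ∀ L ∈ I, f L ∈ L := by
    intro L hL
    have h1 : f L ∈ MulAut.conj (xs L) • T := ⟨(g : G), g.2, rfl⟩
    rwa [hxsL L hL] at h1
  obtain ⟨w, -, hwI, hw⟩ := Cfsg.Agent.H142.GmnPC.exists_prod I hI f hfL ⊤ (fun L _ => mem_top _)
  have hconjC : ∀ (x : G) (L : Subgroup G) (c : G), c ∈ centralizer ((MulAut.conj x⁻¹ • L : Subgroup G) : Set G) →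
      x * c * x⁻¹ ∈ centralizer (L : Set G) := by
    intro x L c hc
    rw [mem_centralizer_iff] at hc ⊢
    intro l hl
    have h1 := hc (x⁻¹ * l * x) ⟨l, hl, by simp⟩
    calc l * (x * c * x⁻¹) = x * ((x⁻¹ * l * x) * c) * x⁻¹ := by group
      _ = x * (c * (x⁻¹ * l * x)) * x⁻¹ := by rw [h1]
      _ = x * c * x⁻¹ * l := by group
  have hconjM : ∀ x ∈ R, ∀ m ∈ (⨆ L ∈ I, L), x * m * x⁻¹ ∈ (⨆ L ∈ I, L) := by
    intro x hx m hm
    have h1 : (⨆ L ∈ I, L) ≤ (⨆ L ∈ I, L).comap (MulAut.conj x).toMonoidHom := by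
      refine iSup₂_le fun L hL l hl => ?_
      rw [mem_comap]
      refine (le_iSup₂_of_le (MulAut.conj x • L) (hconjI x hx L hL) le_rfl : MulAut.conj x • L ≤ _) ?_
      exact ⟨l, hl, rfl⟩
    exact h1 hm
  -- `w` normalises `R`
  have hwP : ∀ x ∈ R, w⁻¹ * (x * w * x⁻¹) ∈ (R : Subgroup G) := by
    intro x hx
    set L' : Subgroup G → Subgroup G := fun L => MulAut.conj x⁻¹ • L with hL'
    have hL'I : ∀ L ∈ I, L' L ∈ I := fun L hL => hconjI x⁻¹ (R.inv_mem hx) L hL
    set q : Subgroup G → G := fun L => (f L)⁻¹ * (x * f (L' L) * x⁻¹) with hq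
    have hqP : ∀ L ∈ I, q L ∈ (R : Subgroup G) ∧ q L ∈ L := by
      intro L hL
      set a := xs L
      set b := xs (L' L)
      have ha : a ∈ R := hxsP L hL
      have hb : b ∈ R := hxsP _ (hL'I L hL)
      set y := a⁻¹ * (x * b) with hy
      have hyP : y ∈ R := R.mul_mem (R.inv_mem ha) (R.mul_mem hx hb)
      have hyK : MulAut.conj y • T = T := by
        rw [hy, map_mul, map_mul, mul_smul, mul_smul, hxsL _ (hL'I L hL), hL']
        simp only [map_inv, smul_inv_smul]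
        rw [inv_smul_eq_iff, hxsL L hL]
      have hyN : y ∈ normalizer (T : Set G) := mem_normalizer_iff_smul.2 hyK
      have h1 : q L = a * ((g : G)⁻¹ * (y * g * y⁻¹)) * a⁻¹ := by
        change (a * (g : G) * a⁻¹)⁻¹ * (x * (b * (g : G) * b⁻¹) * x⁻¹) = _
        rw [hy]
        group
      constructor
      · rw [h1]
        exact R.mul_mem (R.mul_mem ha (key R h hgN hyP hyN)) (R.inv_mem ha)
      · have h2 : q L ∈ MulAut.conj a • T := by
          refine ⟨(g : G)⁻¹ * (y * g * y⁻¹), mul_mem (inv_mem g.2) ((mem_normalizer_iff.mp hyN _).mp g.2), ?_⟩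
          rw [h1]
          rfl
        rwa [hxsL L hL] at h2
    obtain ⟨r, hrP, hrI, hr⟩ := Cfsg.Agent.H142.GmnPC.exists_prod I hI q
      (fun L hL => (hqP L hL).2) R (fun L hL => (hqP L hL).1)
    -- `r⁻¹ v` centralises all the factors
    set v := w⁻¹ * (x * w * x⁻¹) with hv
    have hvE : r⁻¹ * v ∈ (⨆ L ∈ I, L) :=
      mul_mem (inv_mem hrI) (mul_mem (inv_mem hwI) (hconjM x hx w hwI))
    have hvC : ∀ L ∈ I, r⁻¹ * v ∈ centralizer (L : Set G) := by
      intro L hLI
      have h1 := hw L hLI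
      have h2 := hconjC x L _ (hw (L' L) (hL'I L hLI))
      have h3 := hr L hLI
      have h4 : ((f L)⁻¹ * w)⁻¹ * q L = q L * ((f L)⁻¹ * w)⁻¹ :=
        (mem_centralizer_iff.mp (inv_mem h1) (q L) (hqP L hLI).2).symm
      have h5 : r⁻¹ * v = ((q L)⁻¹ * r)⁻¹ * (((f L)⁻¹ * w)⁻¹ * (x * ((f (L' L))⁻¹ * w) * x⁻¹)) := by
        have h6 : v = (((f L)⁻¹ * w)⁻¹ * q L) * (x * ((f (L' L))⁻¹ * w) * x⁻¹) := by
          simp only [hv, hq]
          group
        rw [h6, h4]
        group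
      rw [h5]
      exact mul_mem (inv_mem h3) (mul_mem (inv_mem h1) h2)
    have h6 := Hyp.eq_one_of_iSup I hH hvE hvC
    have h7 : v = r * (r⁻¹ * v) := by group
    rw [h7, h6, mul_one]
    exact hrP
  have hwN : w ∈ normalizer ((R : Subgroup G) : Set G) := by
    have h1 : w⁻¹ ∈ normalizer ((R : Subgroup G) : Set G) := by
      apply mem_normalizer_fintype
      intro x hx
      have h2 := R.mul_mem (hwP x hx) hx
      have h3 : w⁻¹ * (x * w * x⁻¹) * x = w⁻¹ * x * w⁻¹⁻¹ := by group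
      rwa [h3] at h2
    simpa using inv_mem h1
  rw [hself] at hwN
  -- restrict to `T`
  have hTI : T ∈ I := (hmem T).2 ⟨1, R.one_mem, by simp⟩
  have hc0 := hw T hTI
  have hwNT : w ∈ normalizer (T : Set G) := by
    have := mul_mem (le_normalizer (hfL T hTI)) (centralizer_le_normalizer _ hc0)
    rwa [mul_inv_cancel_left] at this
  have hfw : MulAut.conj (⟨f T, hfL T hTI⟩ : T) ∈ indT R T := by
    rw [mem_indT]
    refine ⟨w, hwN, hwNT, fun t => ?_⟩
    show f T * t * (f T)⁻¹ = w * t * w⁻¹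
    have h1 : (t : G) * ((f T)⁻¹ * w) = ((f T)⁻¹ * w) * t := mem_centralizer_iff.1 hc0 t t.2
    calc f T * t * (f T)⁻¹ = f T * (t * ((f T)⁻¹ * w)) * w⁻¹ := by group
      _ = f T * (((f T)⁻¹ * w) * t) * w⁻¹ := by rw [h1]
      _ = w * t * w⁻¹ := by group
  have h1 := Gmn.mem_sylow_of_conj_mem h.center_eq (isPGroup_indT R) (sylT R h) (fun x hx => conj_mem_indT R hx) hfw
  obtain ⟨k, hk⟩ := (sylT R h).isPGroup' ⟨_, h1⟩
  have h2 : (⟨f T, hfL T hTI⟩ : T) ^ p ^ k = 1 := congrArg Subtype.val hk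
  have h3 : (f T) ^ p ^ k = 1 := congrArg Subtype.val h2
  have h4 : (g : G) ^ p ^ k = 1 := by
    rw [hf] at h3
    have h5 : (xs T * (g : G) * (xs T)⁻¹) ^ p ^ k = xs T * (g : G) ^ p ^ k * (xs T)⁻¹ := conj_pow
    rw [h5] at h3
    calc (g : G) ^ p ^ k = (xs T)⁻¹ * (xs T * (g : G) ^ p ^ k * (xs T)⁻¹) * xs T := by group
      _ = 1 := by rw [h3]; group
  have h5 : g ^ p ^ k = 1 := Subtype.ext h4
  have h6 : orderOf g = 1 := Nat.eq_one_of_dvd_coprimes
    (Nat.Coprime.pow_left k ((Nat.Prime.coprime_iff_not_dvd Fact.out).2 hgp)) (orderOf_dvd_of_pow_eq_one h5) dvd_rfl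
  exact orderOf_eq_one_iff.1 h6

/-- **The automorphisms of a simple direct factor induced by a self-normalizing Sylow subgroup.** -/
theorem spec (h : Hyp N T) (hself : normalizer ((R : Subgroup G) : Set G) = R) (A : Subgroup (MulAut T))
    (hA : ∀ a, a ∈ A ↔ ∃ x ∈ R, x ∈ normalizer (T : Set G) ∧ ∀ t : T, (a t : G) = x * t * x⁻¹) :
    IsPGroup p A ∧ (∀ x : T, (x : G) ∈ R → MulAut.conj x ∈ A) ∧
      (∃ Q : Sylow p T, ∀ x : T, x ∈ Q ↔ (x : G) ∈ R) ∧
      ∀ g : T, ¬ p ∣ orderOf g → (∀ a ∈ A, MulAut.conj g * a * (MulAut.conj g)⁻¹ ∈ A) → g = 1 := by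
  have h1 : A = indT R T := by
    ext a
    rw [hA, mem_indT]
  rw [h1]
  exact ⟨isPGroup_indT R, fun x hx => conj_mem_indT R hx, ⟨sylT R h, fun x => mem_sylT R h⟩,
    fun g hg hn => eq_one_of_self R h hself hg hn⟩

end Cfsg.Agent.H712.GmnMin
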