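import Mathlib
import Cfsg.Agent.H711.Crit_m3
import Cfsg.Agent.S0091
import Cfsg.Agent.S1991
import Cfsg.Agent.S2807
import Cfsg.Agent.Transfer.FocalHall
import Cfsg.Agent.FastGrp
import Cfsg.Agent.Prune
set_option linter.all false
prune_inst 0x7f00000000000000000000000000000000000000000000000000000000000000000000000000000000000000000000000000000000000000000000000000000000000000000000000000000000000000003fffffffffffffffffffffffffffbeffbdffffffff
open scoped Cfsg.Agent.FastGrp

/-!
# Moving elements from transfer theorems (helper712)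

* `nn_of_five` : for `p ≥ 5`, every nonabelian finite simple group of order divisible by `p` satisfies `NN p`
  (Thompson/Glauberman, S1991);
* `nn_of_three` : for `p = 3`, those whose order is not divisible by `81` (Yoshida, S2807).
-/

set_option autoImplicit false

open Subgroup

namespace Cfsg.Agent.H712.GmnNN

open Cfsg.Agent.H711.Crit Cfsg.Agent.H712.Gmn

variable {p : ℕ} [hp : Fact p.Prime] {S : Type*} [Group S] [Finite S]

omit hp [Finite S] in
/-- without moving elements the `p'`-elements of the normalizer centralise -/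
theorem mem_centralizer_of_not (h : ¬ NN p S) (Q : Sylow p S) {g : S} (hg : g ∈ normalizer ((Q : Subgroup S) : Set S))
    (ho : ¬ p ∣ orderOf g) : g ∈ centralizer ((Q : Subgroup S) : Set S) := by
  rw [mem_centralizer_iff]
  intro t ht
  by_contra h0
  refine h ⟨Q, g, ho, fun x hx => ((mem_normalizer_iff.1 hg) x).1 hx, t, ht, fun h1 => h0 ?_⟩
  exact (mul_inv_eq_iff_eq_mul.1 h1).symm

theorem nn_of_five [IsSimpleGroup S] (h5 : 5 ≤ p) (hd : p ∣ Nat.card S) (hc : ¬ (Nat.card S).Prime) : NN p S := by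
  by_contra hno
  obtain ⟨Q⟩ : Nonempty (Sylow p S) := inferInstance
  obtain ⟨N, hN, hi⟩ := S1991.result h5 Q (Q.ne_bot_of_dvd_card hd) fun g hg ho =>
    mem_centralizer_of_not hno Q hg fun hpd => hp.out.one_lt.ne'
      (Nat.dvd_one.1 (by rw [← show (orderOf g).gcd p = 1 from ho]; exact Nat.dvd_gcd hpd dvd_rfl))
  rcases hN.eq_bot_or_eq_top with h1 | h1
  · rw [h1, index_bot] at hi
    exact hc (hi ▸ hp.out)
  · rw [h1, index_top] at hi
    exact hp.out.one_lt.ne hi

/-- a nontrivial `p`-group is not perfect -/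
theorem not_le_commutator {G : Type*} [Group G] {H : Subgroup G} [Finite H] (hH : IsPGroup p H) (h1 : H ≠ ⊥) :
    ¬ H ≤ ⁅H, H⁆ := by
  intro hle
  have hn : Nontrivial H := (nontrivial_iff_ne_bot H).2 h1
  have hnil : Group.IsNilpotent H := hH.isNilpotent
  have hsol : Group.IsSolvable H := inferInstance
  have h2 : _root_.commutator H < ⊤ := Group.IsSolvable.commutator_lt_top_of_nontrivial H
  apply h2.ne
  have h3 : (_root_.commutator H).map H.subtype = ⁅H, H⁆ := by
    rw [_root_.commutator_def, map_commutator, ← MonoidHom.range_eq_map, range_subtype]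
  rw [eq_top_iff]
  intro x _
  have h4 : (x : G) ∈ (_root_.commutator H).map H.subtype := by
    rw [h3]
    exact hle x.2
  obtain ⟨y, hy, hyx⟩ := h4
  have : y = x := Subtype.ext hyx
  rwa [← this]

theorem not_sylow_le (h : ¬ NN p S) (Q : Sylow p S) (hQ : (Q : Subgroup S) ≠ ⊥) :
    ¬ (Q : Subgroup S) ≤ ⁅normalizer ((Q : Subgroup S) : Set S), normalizer ((Q : Subgroup S) : Set S)⁆ := by
  intro hle
  set N := normalizer ((Q : Subgroup S) : Set S) with hN
  have hQN : (Q : Subgroup S) ≤ N := le_normalizer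
  set H : Subgroup N := (Q : Subgroup S).subgroupOf N with hH
  have hmapH : H.map N.subtype = (Q : Subgroup S) := by
    rw [hH, subgroupOf_map_subtype, inf_eq_left.2 hQN]
  -- `H ≤ N'`
  have h1 : H ≤ _root_.commutator N := by
    intro x hx
    have h2 : (x : S) ∈ ⁅N, N⁆ := hle (mem_subgroupOf.1 hx)
    have h3 : (_root_.commutator N).map N.subtype = ⁅N, N⁆ := by
      rw [_root_.commutator_def, map_commutator, ← MonoidHom.range_eq_map, range_subtype]
    rw [← h3] at h2
    obtain ⟨y, hy, hyx⟩ := h2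
    have : y = x := Subtype.ext hyx
    rwa [← this]
  -- Hall subgroup
  have hcop : Nat.Coprime (Nat.card H) H.index := by
    have hcard : Nat.card H = Nat.card (Q : Subgroup S) := Nat.card_congr (subgroupOfEquivOfLe hQN).toEquiv
    obtain ⟨n, hn⟩ := Q.isPGroup'.exists_card_eq
    rw [hcard, hn]
    refine Nat.Coprime.pow_left n ((Nat.Prime.coprime_iff_not_dvd hp.out).2 fun hd => Q.not_dvd_index ?_)
    exact hd.trans (relIndex_dvd_index_of_le hQN)
  have hfoc := Transfer.FocalHall.focal_eq H (Transfer.FocalHall.coprime_of_hall H hcop)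
  rw [inf_eq_right.2 h1] at hfoc
  have hle2 : H.focalSubgroup ≤ ⁅H, H⁆ := by
    refine S0091.focal_le_of_no_fusion H fun x hx y hy ⟨g, hg⟩ => ?_
    obtain ⟨a, b, ha, hb, hab, hak, hbp⟩ := exists_parts (p := p) (g : S)
    have hzN : zpowers (g : S) ≤ N := by
      rw [zpowers_le]
      exact g.2
    have haQ : a ∈ Q := mem_of_normalizes Q (fun x hx => ((mem_normalizer_iff.1 (hzN ha)) x).1 hx) hak
    have hbC := mem_centralizer_of_not h Q (hzN hb) hbp
    refine ⟨⟨a, hzN ha⟩, mem_subgroupOf.2 haQ, ?_⟩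
    rw [← hg]
    apply Subtype.ext
    show a * (x : S) * a⁻¹ = (g : S) * (x : S) * (g : S)⁻¹
    have hbx : (x : S) * b = b * x := (mem_centralizer_iff.1 hbC) x (mem_subgroupOf.1 hx)
    rw [hab, mul_inv_rev]
    have : a * b * (x : S) * (b⁻¹ * a⁻¹) = a * (b * x * b⁻¹) * a⁻¹ := by group
    rw [this, ← hbx, mul_inv_cancel_right]
  rw [hfoc] at hle2
  have hHp : IsPGroup p H := Q.isPGroup'.of_injective (subgroupOfEquivOfLe hQN).toMonoidHom (subgroupOfEquivOfLe hQN).injective
  refine not_le_commutator hHp (fun h0 => hQ ?_) hle2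
  rw [← hmapH, h0, Subgroup.map_bot]

theorem nn_of_three [IsSimpleGroup S] [Fact (Nat.Prime 3)] (hd : 3 ∣ Nat.card S) (h81 : ¬ 81 ∣ Nat.card S)
    (hc : ¬ (Nat.card S).Prime) : NN 3 S := by
  by_contra hno
  obtain ⟨Q⟩ : Nonempty (Sylow 3 S) := inferInstance
  have hQ : (Q : Subgroup S) ≠ ⊥ := Q.ne_bot_of_dvd_card hd
  have hG : _root_.commutator S = ⊤ := by
    rcases (inferInstance : (_root_.commutator S).Normal).eq_bot_or_eq_top with h1 | h1
    · exfalso
      have hcomm : ∀ a b : S, a * b = b * a := fun a b => by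
        have h2 : a * b * a⁻¹ * b⁻¹ ∈ _root_.commutator S := commutator_mem_commutator (mem_top a) (mem_top b)
        rw [h1, mem_bot] at h2
        exact commutatorElement_eq_one_iff_mul_comm.1 h2
      let _ : CommGroup S := { (inferInstance : Group S) with mul_comm := hcomm }
      exact hc IsSimpleGroup.prime_card
    · exact h1
  have h2 : (Q : Subgroup S) ⊓ _root_.commutator S ≠ (Q : Subgroup S) ⊓
      ⁅normalizer ((Q : Subgroup S) : Set S), normalizer ((Q : Subgroup S) : Set S)⁆ := by
    rw [hG, inf_top_eq]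
    intro h0
    exact not_sylow_le hno Q hQ (inf_eq_left.1 h0.symm)
  obtain ⟨P, f, hf⟩ := S2807.result Q h2
  have h3 : 3 ^ 4 ∣ Nat.card (P : Subgroup (Equiv.Perm (Fin (3 ^ 2)))) := by
    refine P.pow_dvd_card_of_pow_dvd_card ?_
    rw [Nat.card_perm, Nat.card_fin]
    decide
  have h4 : Nat.card (P : Subgroup (Equiv.Perm (Fin (3 ^ 2)))) ∣ Nat.card (Q : Subgroup S) :=
    card_dvd_of_surjective f hf
  exact h81 ((h3.trans h4).trans (card_subgroup_dvd_card _))

end Cfsg.Agent.H712.GmnNN
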